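import Groth.Prelude.Def_GLin
import Groth.Agent.HopfGr.Cartier
import Groth.Agent.RedTensor.Basic
import Groth.Agent.SchFinLib.Connected

/-!
Linearisations of the trivial line bundle are given by characters.
-/

set_option autoImplicit false
set_option linter.style.haveILetI false
set_option linter.unusedSectionVars false

universe u

open TensorProduct

noncomputable section

namespace Groth.Agent.GLinTrivLib

section Sep

variable {k : Type u} [Field k] [IsAlgClosed k] {R : Type u} [CommRing R] [IsReduced R] [Algebra k R]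
  [Algebra.FiniteType k R]

theorem eq_of_pts {r r' : R} (h : ∀ x : R →ₐ[k] k, x r = x r') : r = r' := by
  by_contra hne
  obtain ⟨x, hx⟩ := RedTensor.exists_algHom_ne_zero (k := k) (sub_ne_zero.2 hne)
  exact hx (by rw [map_sub, h, sub_self])

end Sep

variable {k : Type u} [Field k] {A : Type u} [CommRing A] [HopfAlgebra k A]
  {R : Type u} [CommRing R] [Algebra k R]

/-- Evaluating the first factor. -/
def evL (A : Type u) [CommRing A] [Algebra k A] (x : R →ₐ[k] k) : R ⊗[k] A →ₐ[k] A :=
  Algebra.TensorProduct.lift ((Algebra.ofId k A).comp x) (AlgHom.id k A) fun _ _ => Commute.all _ _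

theorem evL_tmul (x : R →ₐ[k] k) (r : R) (a : A) : evL A x (r ⊗ₜ[k] a) = x r • a := by
  simp [evL, Algebra.smul_def, Algebra.ofId_apply]

/-- Evaluating the second factor by a functional. -/
def evR (φ : A →ₗ[k] k) : R ⊗[k] A →ₗ[k] R :=
  (TensorProduct.rid k R).toLinearMap ∘ₗ φ.lTensor R

theorem evR_tmul (φ : A →ₗ[k] k) (r : R) (a : A) : evR φ (r ⊗ₜ[k] a) = φ a • r := by
  simp [evR]

theorem apply_evR (x : R →ₐ[k] k) (φ : A →ₗ[k] k) (t : R ⊗[k] A) : x (evR φ t) = φ (evL A x t) := by
  induction t using TensorProduct.induction_on with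
  | zero => simp
  | tmul r a => rw [evR_tmul, evL_tmul, map_smul, map_smul, smul_eq_mul, smul_eq_mul, mul_comm]
  | add a b ha hb => simp only [map_add, ha, hb]

theorem apply_evL (x : R →ₐ[k] k) (g : A →ₐ[k] k) (t : R ⊗[k] A) : g (evL A x t) = x (evR g.toLinearMap t) := by
  rw [apply_evR]; rfl

theorem exists_fin_span (t : R ⊗[k] A) :
    ∃ V : Submodule k A, FiniteDimensional k V ∧ ∀ x : R →ₐ[k] k, evL A x t ∈ V := by
  induction t using TensorProduct.induction_on with
  | zero => exact ⟨⊥, inferInstance, fun x => by simp⟩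
  | tmul r a => exact ⟨Submodule.span k {a}, inferInstance, fun x => by
      rw [evL_tmul]; exact Submodule.smul_mem _ _ (Submodule.mem_span_singleton_self a)⟩
  | add a b ha hb =>
    obtain ⟨V, hV, hV'⟩ := ha
    obtain ⟨W, hW, hW'⟩ := hb
    exact ⟨V ⊔ W, inferInstance, fun x => by
      rw [map_add]; exact Submodule.add_mem_sup (hV' x) (hW' x)⟩

variable [IsAlgClosed k] [IsReduced R] [Algebra.FiniteType k R]

theorem eq_of_evL {t t' : R ⊗[k] A} (h : ∀ x : R →ₐ[k] k, evL A x t = evL A x t') : t = t' := by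
  classical
  let b := Module.Basis.ofVectorSpace k A
  have h1 : ∀ i, evR (R := R) (b.coord i) t = evR (R := R) (b.coord i) t' := fun i =>
    eq_of_pts fun x => by rw [apply_evR, apply_evR, h]
  refine (TensorProduct.equivFinsuppOfBasisRight b).injective (Finsupp.ext fun i => ?_)
  have h2 : ∀ s : R ⊗[k] A, TensorProduct.equivFinsuppOfBasisRight b s i = evR (b.coord i) s := fun s => by
    induction s using TensorProduct.induction_on with
    | zero => simp
    | tmul r a => simp [evR_tmul]
    | add a b ha hb => simp only [map_add, Finsupp.add_apply, ha, hb]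
  rw [h2, h2, h1]

/-- A family of group-likes over a connected base is constant. -/
theorem exists_grouplike_eq [ConnectedSpace (PrimeSpectrum R)] (t : R ⊗[k] A)
    (h : ∀ x : R →ₐ[k] k, IsGroupLikeElem k (evL A x t)) : ∃ χ : A, IsGroupLikeElem k χ ∧ t = 1 ⊗ₜ[k] χ := by
  classical
  obtain ⟨V, hV, hmem⟩ := exists_fin_span t
  let G : Set A := {a | IsGroupLikeElem k a ∧ a ∈ V}
  have hli : LinearIndepOn k id G := (linearIndepOn_isGroupLikeElem (R := k) (A := A)).mono fun a ha => ha.1
  have hliV : LinearIndependent k (fun a : G => (⟨a.1, a.2.2⟩ : V)) :=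
    LinearIndependent.of_comp V.subtype hli
  haveI : Finite G := hliV.finite
  haveI : Fintype G := Fintype.ofFinite G
  obtain ⟨L, hL⟩ := LinearMap.exists_leftInverse_of_injective (Finsupp.linearCombination k (fun a : G => a.1))
    (LinearMap.ker_eq_bot.2 hli)
  have hφ : ∀ a b : G, L a.1 b = if a = b then 1 else 0 := fun a b => by
    have := LinearMap.congr_fun hL (Finsupp.single a 1)
    simp only [LinearMap.comp_apply, Finsupp.linearCombination_single, one_smul, LinearMap.id_apply] at this
    rw [this, Finsupp.single_apply]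
  let r : G → R := fun b => evR ((Finsupp.lapply b).comp L) t
  have hx : ∀ (x : R →ₐ[k] k), ∃ a : G, (a : A) = evL A x t ∧ ∀ b, x (r b) = if a = b then 1 else 0 := fun x =>
    ⟨⟨evL A x t, h x, hmem x⟩, rfl, fun b => by
      show x (evR _ t) = _
      rw [apply_evR, ← hφ]
      rfl⟩
  have hidem : ∀ b, IsIdempotentElem (r b) := fun b => eq_of_pts fun x => by
    obtain ⟨a, -, ha⟩ := hx x
    rw [map_mul, ha]
    split_ifs <;> simp
  have hsum : ∑ b, r b = 1 := eq_of_pts fun x => by
    obtain ⟨a, -, ha⟩ := hx x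
    rw [map_sum, map_one]
    simp [ha]
  haveI : Nontrivial R := by
    obtain ⟨p⟩ := (inferInstance : ConnectedSpace (PrimeSpectrum R)).toNonempty
    exact ⟨⟨1, 0, fun h10 => p.2.ne_top ((Ideal.eq_top_iff_one _).2 (by rw [h10]; exact p.asIdeal.zero_mem))⟩⟩
  obtain ⟨b, hb⟩ : ∃ b, r b = 1 := by
    by_contra hn
    push Not at hn
    have h0 : ∀ b, r b = 0 := fun b => (SchFinLib.eq_zero_or_one_of_idem (hidem b)).resolve_right (hn b)
    simp [h0] at hsum
  refine ⟨b.1, b.2.1, eq_of_evL fun x => ?_⟩
  obtain ⟨a, hax, ha⟩ := hx x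
  have := ha b
  rw [hb, map_one] at this
  rw [evL_tmul, map_one, one_smul, ← hax]
  split_ifs at this with hab
  · rw [hab]
  · exact absurd this one_ne_zero

variable [HopfRep.Comod k A R] [GLin.IsCoactAlg k A R]

/-- The cocycle identity of a linearisation. -/
theorem cocycle {θ : R ⊗[k] A}
    (hassoc : (TensorProduct.assoc k R A A).toLinearMap ∘ₗ
        ((LinearMap.mulRight k θ) ∘ₗ HopfRep.Comod.coact (k := k) (A := A) (V := R)).rTensor A ∘ₗ
          ((LinearMap.mulRight k θ) ∘ₗ HopfRep.Comod.coact (k := k) (A := A) (V := R)) =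
      (CoalgebraStruct.comul (R := k) (A := A)).lTensor R ∘ₗ
        ((LinearMap.mulRight k θ) ∘ₗ HopfRep.Comod.coact (k := k) (A := A) (V := R))) :
    Algebra.TensorProduct.assoc k k k R A A
      (Algebra.TensorProduct.map (GLin.coactAlgHom k A R) (AlgHom.id k A) θ * θ ⊗ₜ[k] (1 : A)) =
      (CoalgebraStruct.comul (R := k) (A := A)).lTensor R θ := by
  have h1 := LinearMap.congr_fun hassoc 1
  simp only [LinearMap.comp_apply, LinearMap.mulRight_apply, GLin.IsCoactAlg.coact_one, one_mul] at h1
  rw [← h1]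
  have key : ∀ s : R ⊗[k] A,
      Algebra.TensorProduct.map (GLin.coactAlgHom k A R) (AlgHom.id k A) s * θ ⊗ₜ[k] (1 : A) =
        ((LinearMap.mulRight k θ) ∘ₗ HopfRep.Comod.coact (k := k) (A := A) (V := R)).rTensor A s := fun s => by
    induction s using TensorProduct.induction_on with
    | zero => simp
    | tmul r a =>
      rw [Algebra.TensorProduct.map_tmul, Algebra.TensorProduct.tmul_mul_tmul, mul_one, LinearMap.rTensor_tmul]
      rfl
    | add a b ha hb => rw [map_add, add_mul, ha, hb, map_add]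
  rw [key]
  rfl

theorem counit_eq {θ : R ⊗[k] A}
    (hcounit : (CoalgebraStruct.counit (R := k) (A := A)).lTensor R ∘ₗ
        ((LinearMap.mulRight k θ) ∘ₗ HopfRep.Comod.coact (k := k) (A := A) (V := R)) =
      (TensorProduct.mk k R k).flip 1) :
    evR (Bialgebra.counitAlgHom k A).toLinearMap θ = 1 := by
  have h1 := LinearMap.congr_fun hcounit 1
  simp only [LinearMap.comp_apply, LinearMap.mulRight_apply, GLin.IsCoactAlg.coact_one, one_mul] at h1
  show TensorProduct.rid k R ((CoalgebraStruct.counit (R := k) (A := A)).lTensor R θ) = 1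
  rw [h1]
  simp

theorem isUnit_theta {θ : R ⊗[k] A}
    (hc : Algebra.TensorProduct.assoc k k k R A A
      (Algebra.TensorProduct.map (GLin.coactAlgHom k A R) (AlgHom.id k A) θ * θ ⊗ₜ[k] (1 : A)) =
      (CoalgebraStruct.comul (R := k) (A := A)).lTensor R θ)
    (hε : evR (Bialgebra.counitAlgHom k A).toLinearMap θ = 1) : IsUnit θ := by
  let m : A ⊗[k] A →ₐ[k] A :=
    Algebra.TensorProduct.lift (AlgHom.id k A) (HopfAlgebra.antipodeAlgHom k A) fun _ _ => Commute.all _ _
  let M : R ⊗[k] (A ⊗[k] A) →ₐ[k] R ⊗[k] A := Algebra.TensorProduct.map (AlgHom.id k R) m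
  have hm : m.toLinearMap = LinearMap.mul' k A ∘ₗ (HopfAlgebraStruct.antipode k).lTensor A := by
    refine TensorProduct.ext' fun a b => ?_
    simp [m]
  have h1 : ∀ s : R ⊗[k] A, M ((CoalgebraStruct.comul (R := k) (A := A)).lTensor R s) =
      evR (Bialgebra.counitAlgHom k A).toLinearMap s ⊗ₜ[k] 1 := fun s => by
    induction s using TensorProduct.induction_on with
    | zero => simp
    | tmul r a =>
      rw [evR_tmul, LinearMap.lTensor_tmul]
      show r ⊗ₜ[k] m (CoalgebraStruct.comul a) = _
      rw [show m (CoalgebraStruct.comul a) = m.toLinearMap (CoalgebraStruct.comul a) from rfl, hm,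
        LinearMap.comp_apply, HopfAlgebra.mul_antipode_lTensor_comul_apply, Algebra.algebraMap_eq_smul_one,
        TensorProduct.tmul_smul, TensorProduct.smul_tmul']
      rfl
    | add a b ha hb => simp only [map_add, ha, hb, TensorProduct.add_tmul]
  have h2 : ∀ s : R ⊗[k] A, M (Algebra.TensorProduct.assoc k k k R A A (s ⊗ₜ[k] (1 : A))) = s := fun s => by
    induction s using TensorProduct.induction_on with
    | zero => simp
    | tmul r a => simp [M, m]
    | add a b ha hb => simp only [map_add, TensorProduct.add_tmul, ha, hb]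
  have h3 := congrArg M hc
  rw [map_mul, map_mul, h2, h1, hε] at h3
  exact IsUnit.of_mul_eq_one _ ((mul_comm _ _).trans h3)

theorem isGroupLike_of_const [Nontrivial R] {c : A}
    (hc : Algebra.TensorProduct.assoc k k k R A A
      (Algebra.TensorProduct.map (GLin.coactAlgHom k A R) (AlgHom.id k A) ((1 : R) ⊗ₜ[k] c) *
        ((1 : R) ⊗ₜ[k] c) ⊗ₜ[k] (1 : A)) =
      (CoalgebraStruct.comul (R := k) (A := A)).lTensor R ((1 : R) ⊗ₜ[k] c))
    (hε : evR (Bialgebra.counitAlgHom k A).toLinearMap ((1 : R) ⊗ₜ[k] c) = 1) : IsGroupLikeElem k c := by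
  rw [Algebra.TensorProduct.map_tmul, map_one, Algebra.TensorProduct.one_def, AlgHom.id_apply,
    Algebra.TensorProduct.tmul_mul_tmul, Algebra.TensorProduct.tmul_mul_tmul, mul_one, one_mul, mul_one,
    Algebra.TensorProduct.assoc_tmul, LinearMap.lTensor_tmul] at hc
  refine ⟨?_, ?_⟩
  · refine (algebraMap k R).injective ?_
    rw [map_one, Algebra.algebraMap_eq_smul_one]
    rw [evR_tmul] at hε
    exact hε
  · exact (Algebra.TensorProduct.includeRight_injective (R := k) (A := R) (B := A ⊗[k] A)
      (RingHom.injective _) hc).symm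

end Groth.Agent.GLinTrivLib
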